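import Mathlib
import Cfsg.Agent.Lib.Helper56.TC
import Cfsg.Agent.Lib.Helper28.HeMult.L2.C0
import Cfsg.Agent.Lib.Helper28.HeMult.L2.C1
import Cfsg.Agent.Lib.Helper28.HeMult.L2.C2
import Cfsg.Agent.Lib.Helper28.HeMult.L2.C3
set_option autoImplicit false
set_option maxRecDepth 1000000

namespace Cfsg.Agent.Lib.Helper28.HeMult.L2

open Cfsg.Agent.Lib.Helper56.TC Cfsg.Agent.Lib.Helper56.TC.Tabs
open Cfsg.Agent.Lib.Helper28.CovL

theorem uN_2194 : Upto T.chkName 2194 := upto_add (upto_zero T.chkName) rfl cN_0
theorem uN_3438 : Upto T.chkName 3438 := upto_add uN_2194 rfl cN_2194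
theorem uN_4321 : Upto T.chkName 4321 := upto_add uN_3438 rfl cN_3438
theorem uN_6191 : Upto T.chkName 6191 := upto_add uN_4321 rfl cN_4321
theorem uN_8114 : Upto T.chkName 8114 := upto_add uN_6191 rfl cN_6191
theorem uN_10014 : Upto T.chkName 10014 := upto_add uN_8114 rfl cN_8114
theorem uN_11988 : Upto T.chkName 11988 := upto_add uN_10014 rfl cN_10014
theorem uN_13954 : Upto T.chkName 13954 := upto_add uN_11988 rfl cN_11988
theorem uN_15889 : Upto T.chkName 15889 := upto_add uN_13954 rfl cN_13954
theorem uN_17805 : Upto T.chkName 17805 := upto_add uN_15889 rfl cN_15889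
theorem uN_19848 : Upto T.chkName 19848 := upto_add uN_17805 rfl cN_17805
theorem uN_21882 : Upto T.chkName 21882 := upto_add uN_19848 rfl cN_19848
theorem uN_23819 : Upto T.chkName 23819 := upto_add uN_21882 rfl cN_21882
theorem uN_25827 : Upto T.chkName 25827 := upto_add uN_23819 rfl cN_23819
theorem uN_27722 : Upto T.chkName 27722 := upto_add uN_25827 rfl cN_25827
theorem uN_29566 : Upto T.chkName 29566 := upto_add uN_27722 rfl cN_27722
theorem uN_31400 : Upto T.chkName 31400 := upto_add uN_29566 rfl cN_29566
theorem uN_33338 : Upto T.chkName 33338 := upto_add uN_31400 rfl cN_31400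
theorem uN_35346 : Upto T.chkName 35346 := upto_add uN_33338 rfl cN_33338
theorem uN_37343 : Upto T.chkName 37343 := upto_add uN_35346 rfl cN_35346
theorem uN_39134 : Upto T.chkName 39134 := upto_add uN_37343 rfl cN_37343
theorem uN_41033 : Upto T.chkName 41033 := upto_add uN_39134 rfl cN_39134
theorem uN_43065 : Upto T.chkName 43065 := upto_add uN_41033 rfl cN_41033
theorem uN_44853 : Upto T.chkName 44853 := upto_add uN_43065 rfl cN_43065
theorem uN_46714 : Upto T.chkName 46714 := upto_add uN_44853 rfl cN_44853
theorem uN_48608 : Upto T.chkName 48608 := upto_add uN_46714 rfl cN_46714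
theorem uN_50452 : Upto T.chkName 50452 := upto_add uN_48608 rfl cN_48608
theorem uN_52284 : Upto T.chkName 52284 := upto_add uN_50452 rfl cN_50452
theorem uN_54054 : Upto T.chkName 54054 := upto_add uN_52284 rfl cN_52284
theorem uN_55827 : Upto T.chkName 55827 := upto_add uN_54054 rfl cN_54054
theorem uN_57458 : Upto T.chkName 57458 := upto_add uN_55827 rfl cN_55827
theorem uN_59246 : Upto T.chkName 59246 := upto_add uN_57458 rfl cN_57458
theorem uN_60936 : Upto T.chkName 60936 := upto_add uN_59246 rfl cN_59246
theorem uN_61447 : Upto T.chkName 61447 := upto_add uN_60936 rfl cN_60936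
theorem uF_909 : Upto T.chkFinName 909 := upto_add (upto_zero T.chkFinName) rfl cF_0
theorem uF_1818 : Upto T.chkFinName 1818 := upto_add uF_909 rfl cF_909
theorem uF_2727 : Upto T.chkFinName 2727 := upto_add uF_1818 rfl cF_1818
theorem uF_3636 : Upto T.chkFinName 3636 := upto_add uF_2727 rfl cF_2727
theorem uF_4080 : Upto T.chkFinName 4080 := upto_add uF_3636 rfl cF_3636

/-- The certificate is valid. -/
theorem certC : CertC T where
  hNN := by decide +kernel
  hN := by decide +kernel
  hinvK := by decide +kernel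
  hinvli := by decide +kernel
  hsubK := by decide +kernel
  hrelK := by decide +kernel
  hrx := by decide +kernel
  hchk := uN_61447
  hfin := uF_4080

end Cfsg.Agent.Lib.Helper28.HeMult.L2
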